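import Mathlib

/-!
# S3938-OPLUS8, `q = 5`: commuting elements of order 7 and 3, alternating groups (helper729)
-/

set_option autoImplicit false

namespace Cfsg.Agent.H729.SprO8

open Equiv Equiv.Perm

/-- no commuting elements of order 7 and 3 -/
def NS (T : Type*) [Group T] : Prop := ∀ a b : T, orderOf a = 7 → orderOf b = 3 → a * b = b * a → False

theorem NS.congr {S T : Type*} [Group S] [Group T] (e : S ≃* T) (h : NS T) : NS S := by
  intro a b ha hb hab
  exact h (e a) (e b) (by rw [MulEquiv.orderOf_eq, ha]) (by rw [MulEquiv.orderOf_eq, hb]) (by rw [← map_mul, hab, map_mul])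

theorem ns_perm {m : ℕ} (hm : m ≤ 9) : NS (Perm (Fin m)) := by
  intro a b ha hb hab
  have h7 : Nat.Prime 7 := by norm_num
  have hl : a.cycleType.lcm = 7 := by rw [lcm_cycleType, ha]
  have hs : a.cycleType.sum ≤ m := by
    have := a.support.card_le_univ
    rwa [← sum_cycleType, Fintype.card_fin] at this
  have hall : ∀ n ∈ a.cycleType, n = 7 := by
    intro n hn
    have h1 : n ∣ 7 := hl ▸ Multiset.dvd_lcm hn
    rcases (Nat.dvd_prime h7).1 h1 with h | h
    · have := two_le_of_mem_cycleType hn
      omega
    · exact h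
  have hrep := Multiset.eq_replicate_of_mem hall
  have hc : Multiset.card a.cycleType = 1 := by
    rw [hrep, Multiset.sum_replicate, smul_eq_mul] at hs
    have h0 : Multiset.card a.cycleType ≠ 0 := by
      intro h0
      rw [Multiset.card_eq_zero] at h0
      rw [h0, Multiset.lcm_zero] at hl
      omega
    omega
  rw [hc, Multiset.replicate_one] at hrep
  have hm7 : 7 ≤ m := by
    rw [hrep, Multiset.sum_singleton] at hs
    exact hs
  have hcard := nat_card_centralizer (g := a)
  rw [hrep, Multiset.sum_singleton, Multiset.prod_singleton, Multiset.toFinset_singleton, Finset.prod_singleton,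
    Multiset.count_singleton_self, Fintype.card_fin] at hcard
  have hb3 : 3 ∣ Nat.card (Subgroup.centralizer ({a} : Set (Perm (Fin m)))) := by
    rw [← hb]
    have hmem : b ∈ Subgroup.centralizer ({a} : Set (Perm (Fin m))) := Subgroup.mem_centralizer_singleton_iff.2 hab.symm
    have := orderOf_dvd_natCard (⟨b, hmem⟩ : Subgroup.centralizer ({a} : Set (Perm (Fin m))))
    rwa [Subgroup.orderOf_mk] at this
  rw [hcard] at hb3
  have : m = 7 ∨ m = 8 ∨ m = 9 := by omega
  rcases this with rfl | rfl | rfl <;> revert hb3 <;> decide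

theorem ns_alt {m : ℕ} (hm : m ≤ 9) : NS (alternatingGroup (Fin m)) := by
  intro a b ha hb hab
  refine ns_perm hm (a : Perm (Fin m)) (b : Perm (Fin m)) ?_ ?_ ?_
  · rw [Subgroup.orderOf_coe, ha]
  · rw [Subgroup.orderOf_coe, hb]
  · exact congrArg Subtype.val hab

end Cfsg.Agent.H729.SprO8
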