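import Cfsg.Agent.H924.L34Wrap

/-!
# S3938-OPLUS8, `q = 5`: `PSL₃(4)` in dimension eight, scalars `± 1` only (helper729)
-/

set_option autoImplicit false

namespace Cfsg.Agent.H729.SprO8

open Cfsg Cfsg.Geo Module Matrix Cfsg.Agent.H906.SL3Par Cfsg.Agent.H906.L34 Cfsg.Agent.H915.LD Cfsg.Agent.H924.L34

section

variable {k : Type*} [Field k] {Λ : Type*} [Group Λ] {K : Type*} [Field K] [Fintype K]
  {ρ : Λ →* M8 k} {π : Λ →* X K}

theorem l34_aux (h : PR ρ π) (h2 : (2 : k) ≠ 0) (hK : Fintype.card K = 4)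
    (hs : ∀ (g : Λ) (c : k), ρ g = c • (1 : M8 k) → c * c = 1) : False := by
  have k2 := two_eq_zero hK
  have e1 : ∀ b c b' c' : K, uni 0 b c * uni 0 b' c' = uni 0 (b + b') (c + c') := by
    intro b c b' c'
    rw [uni_mul]
    congr 1 <;> ring
  have hQ2 : ∀ a ∈ Qa K, a * a = 1 := by
    rintro _ ⟨b, c, rfl⟩
    rw [e1, show b + b = 0 by linear_combination b * k2, show c + c = 0 by linear_combination c * k2, uni_zero]
  have hQc : ∀ a ∈ Qa K, ∀ b ∈ Qa K, a * b = b * a := by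
    rintro _ ⟨b, c, rfl⟩ _ ⟨b', c', rfl⟩
    rw [e1, e1, add_comm b, add_comm c]
  have htr : ∀ a ∈ Qa K, ∀ b ∈ Qa K, a ≠ 1 → b ≠ 1 →
      ∃ t : X K, (∀ c, c ∈ Qa K ↔ t * c * t⁻¹ ∈ Qa K) ∧ t * a * t⁻¹ = b :=
    trans_of (Qa K) (Pa K) Qa_normal (uni 0 0 1) (by
      rintro _ ⟨b, c, rfl⟩ h3
      exact trans_a h3)
  have sq : ∀ y, π y ∈ Qa K → ∃ c : k, c * c = 1 ∧ ρ y * ρ y = c • (1 : M8 k) := by
    intro y hy
    obtain ⟨c, hc⟩ := h.scal (y * y) (by rw [map_mul, hQ2 _ hy])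
    exact ⟨c, hs _ _ hc, by rw [← map_mul, hc]⟩
  have same : ∀ y y', π y ∈ Qa K → π y' ∈ Qa K → π y ≠ 1 → π y' ≠ 1 → ∀ c : k, ρ y * ρ y = c • (1 : M8 k) →
      ρ y' * ρ y' = c • (1 : M8 k) := by
    intro y y' hy hy' h1 h1' c hc
    obtain ⟨t, -, ht⟩ := htr _ hy _ hy' h1 h1'
    obtain ⟨τ, rfl⟩ := h.surj t
    have h3 : π (y' * (τ * y * τ⁻¹)⁻¹) = 1 := by
      rw [map_mul, map_inv, map_mul, map_mul, map_inv, ht, mul_inv_cancel]
    obtain ⟨d, hd⟩ := h.scal _ h3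
    have hd2 := hs _ _ hd
    have h4 : ρ y' = d • ρ (τ * y * τ⁻¹) := by
      calc ρ y' = ρ (y' * (τ * y * τ⁻¹)⁻¹) * ρ (τ * y * τ⁻¹) := by rw [← map_mul, inv_mul_cancel_right]
        _ = d • ρ (τ * y * τ⁻¹) := by rw [hd, smul_mul_assoc, one_mul]
    have h5 : ρ (τ * y * τ⁻¹) * ρ (τ * y * τ⁻¹) = c • (1 : M8 k) := by
      calc ρ (τ * y * τ⁻¹) * ρ (τ * y * τ⁻¹) = ρ τ * (ρ y * ρ y) * ρ τ⁻¹ := by
            rw [← map_mul, ← map_mul, ← map_mul, ← map_mul]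
            congr 1
            group
        _ = c • (1 : M8 k) := by rw [hc, mul_smul_comm, mul_one, smul_mul_assoc, mul_inv']
    rw [h4, smul_mul_assoc, mul_smul_comm, smul_smul, hd2, one_smul, h5]
  -- the elements
  obtain ⟨w, hw0, hw1⟩ := exists_omega hK
  have hmem : ∀ b c : K, uni 0 b c ∈ Qa K := fun b c => ⟨b, c, rfl⟩
  have hne : ∀ b c : K, (b ≠ 0 ∨ c ≠ 0) → uni 0 b c ≠ (1 : X K) := by
    intro b c hbc h0
    rw [← uni_zero] at h0
    have h3 := uni_inj h0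
    rcases hbc with h4 | h4
    · exact h4 h3.2.1
    · exact h4 h3.2.2
  obtain ⟨x, hx⟩ := h.surj (uni 0 0 1)
  obtain ⟨y₁, hy₁⟩ := h.surj (uni 0 1 0)
  obtain ⟨y₂, hy₂⟩ := h.surj (uni 0 w 0)
  have hxQ : π x ∈ Qa K := hx ▸ hmem 0 1
  have hx1 : π x ≠ 1 := hx ▸ hne 0 1 (Or.inr one_ne_zero)
  obtain ⟨c, hcc, hc⟩ := sq x hxQ
  have half : ∀ A : M8 k, A = -A → A = 0 := by
    intro A hA
    have h3 : (2 : k) • A = 0 := by
      rw [two_smul]
      nth_rewrite 1 [hA]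
      rw [neg_add_cancel]
    exact (smul_eq_zero.1 h3).resolve_left h2
  have hz : ∀ g : Λ, ρ g ≠ 0 := by
    intro g h0
    have h3 := mul_inv' ρ g
    rw [h0, zero_mul] at h3
    exact zero_ne_one h3
  -- `c = -1`
  have hcm : c = -1 := by
    obtain ⟨g, hg, hgg⟩ := anti_Qa h h2 hK x hxQ hx1
    have hnc : ρ x * ρ g ≠ ρ g * ρ x := by
      intro h3
      rw [h3] at hgg
      have h4 := half _ hgg
      rw [← map_mul] at h4
      exact hz _ h4
    have hg1 : π g ≠ 1 := by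
      intro h3
      obtain ⟨d, hd⟩ := h.scal _ h3
      apply hnc
      rw [hd, mul_smul_comm, smul_mul_assoc, mul_one, one_mul]
    have hxg1 : π (x * g) ≠ 1 := by
      intro h3
      obtain ⟨d, hd⟩ := h.scal _ h3
      apply hnc
      have h4 : ρ (x * g) * ρ x = ρ x * ρ (x * g) := by
        rw [hd, mul_smul_comm, smul_mul_assoc, mul_one, one_mul]
      rw [map_mul, mul_assoc] at h4
      have h5 := congrArg (fun A => ρ x⁻¹ * A) h4
      simp only [← mul_assoc, Cfsg.Agent.H924.L34.inv_mul', one_mul] at h5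
      exact h5.symm
    have h3 := same x g hxQ hg hx1 hg1 c hc
    have h4 := same x (x * g) hxQ (by rw [map_mul]; exact mul_mem hxQ hg) hx1 hxg1 c hc
    have h5 : ρ (x * g) * ρ (x * g) = (-(c * c)) • (1 : M8 k) := by
      calc ρ (x * g) * ρ (x * g) = ρ x * (ρ g * ρ x) * ρ g := by
            rw [map_mul]; simp only [mul_assoc]
        _ = ρ x * (-(ρ x * ρ g)) * ρ g := by rw [hgg, neg_neg]
        _ = -((ρ x * ρ x) * (ρ g * ρ g)) := by
            rw [mul_neg, neg_mul]; simp only [mul_assoc]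
        _ = (-(c * c)) • (1 : M8 k) := by
            rw [hc, h3, smul_mul_assoc, one_mul, smul_smul, neg_smul]
    have h6 := smul_one_inj (h5.symm.trans h4)
    rw [← h6, hcc]
  -- `c = 1`
  have hcp : c = 1 := by
    obtain ⟨b, hbQ, hb1, hxb1, hcomm⟩ : ∃ b, π b ∈ Qa K ∧ π b ≠ 1 ∧ π (x * b) ≠ 1 ∧ ρ x * ρ b = ρ b * ρ x := by
      have hQ1 : π y₁ ∈ Qa K := hy₁ ▸ hmem 1 0
      have hQ2' : π y₂ ∈ Qa K := hy₂ ▸ hmem w 0
      rcases h.comm_or_anti (hQc _ hxQ _ hQ1) (hQ2 _ hxQ) with h3 | h3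
      · refine ⟨y₁, hQ1, hy₁ ▸ hne 1 0 (Or.inl one_ne_zero), ?_, h3⟩
        rw [map_mul, hx, hy₁, e1]
        exact hne _ _ (Or.inl (by simp))
      rcases h.comm_or_anti (hQc _ hxQ _ hQ2') (hQ2 _ hxQ) with h4 | h4
      · refine ⟨y₂, hQ2', hy₂ ▸ hne w 0 (Or.inl hw0), ?_, h4⟩
        rw [map_mul, hx, hy₂, e1]
        exact hne _ _ (Or.inl (by simpa using hw0))
      have hw2 : 1 + w ≠ 0 := by
        intro h5
        apply hw1
        linear_combination h5 - k2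
      refine ⟨y₁ * y₂, by rw [map_mul]; exact mul_mem hQ1 hQ2', ?_, ?_, ?_⟩
      · rw [map_mul, hy₁, hy₂, e1]
        exact hne _ _ (Or.inl hw2)
      · rw [map_mul, map_mul, hx, hy₁, hy₂, e1, e1]
        exact hne _ _ (Or.inl (by simpa using hw2))
      · rw [map_mul, ← mul_assoc, h3, neg_mul, mul_assoc, h4, mul_neg, neg_neg, mul_assoc]
    have h3 := same x b hxQ hbQ hx1 hb1 c hc
    have h4 := same x (x * b) hxQ (by rw [map_mul]; exact mul_mem hxQ hbQ) hx1 hxb1 c hc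
    have h5 : ρ (x * b) * ρ (x * b) = (c * c) • (1 : M8 k) := by
      calc ρ (x * b) * ρ (x * b) = ρ x * (ρ b * ρ x) * ρ b := by
            rw [map_mul]; simp only [mul_assoc]
        _ = ρ x * (ρ x * ρ b) * ρ b := by rw [hcomm]
        _ = (ρ x * ρ x) * (ρ b * ρ b) := by simp only [mul_assoc]
        _ = (c * c) • (1 : M8 k) := by rw [hc, h3, smul_mul_assoc, one_mul, smul_smul]
    have h6 := smul_one_inj (h5.symm.trans h4)
    rw [← h6, hcc]
  apply h2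
  rw [hcp] at hcm
  linear_combination hcm

end

/-- **`PSL₃(4)` is not the socle of a core in `GL₈(F)` whose scalars are `± 1`.** -/
theorem no_l34 {F : Type*} [Field F] (h2 : (2 : F) ≠ 0) {P : Subgroup (GL (Fin 8) F)} (hC : Core P)
    (hs : ∀ g ∈ P, ∀ c : F, (g : Matrix (Fin 8) (Fin 8) F) = c • (1 : Matrix (Fin 8) (Fin 8) F) → c * c = 1)
    {K : Type*} [Field K] [Fintype K] (hK : Fintype.card K = 4)
    (e : Soc P ≃* Matrix.ProjectiveSpecialLinearGroup (Fin 3) K) : False :=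
  l34_aux (pr_rho e hC) h2 hK fun x c hc => hs _ (x : P × X K).1.2 c hc

end Cfsg.Agent.H729.SprO8
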