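import Cfsg.Agent.H729.SprO8.NSList
import Cfsg.Agent.H729.SprO8.LThreeFour
import Cfsg.Agent.H659.U3Stage
import Cfsg.Agent.H464.L2StageOne
import Cfsg.Agent.H937.G24.Row
import Cfsg.Agent.S0000

/-!
# S3938-OPLUS8, `q = 5`, (Q1): the cross characteristic socles (helper729)
-/

set_option autoImplicit false

namespace Cfsg.Agent.H729.SprO8

open Cfsg Cfsg.Geo Cfsg.Agent.OrdDiv Cfsg.Agent.H436 Cfsg.Agent.H264.FKS Cfsg.Agent.H902
open Cfsg.Agent.H902.Names Cfsg.Agent.H708.O8 Cfsg.Agent.H915.LD Cfsg.Agent.H884.El Cfsg.Agent.H936.List12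
open Cfsg.Agent.H912.Bd Cfsg.Agent.H912.Five
open scoped MatrixGroups Matrix

/-- a multiple of the order of `PΩ⁺₈(5)` -/
def NT : ℕ := 5 ^ 12 * (624 * (24 * 624 * 15624))

theorem card_t8 {F : Type} [Field F] [Fintype F] (hF : Nat.card F = 5) : Nat.card (T8 F) ∣ NT := by
  have h4 := (oplus_real (F := F) (m := 4) (p := 5) (f := 1) (by norm_num) le_rfl
    (by rw [← Nat.card_eq_fintype_card, hF]; norm_num) le_rfl).eq
  refine ⟨Nat.gcd 4 ((5 ^ 1) ^ 4 - 1), ?_⟩
  rw [mul_comm]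
  refine Eq.trans ?_ h4.symm
  change _ = (5 ^ 1) ^ (4 * (4 - 1)) *
      (((5 ^ 1) ^ 4 - 1) * ∏ i ∈ Finset.range (4 - 1), ((5 ^ 1) ^ (2 * (i + 1)) - 1))
  simp only [Nat.reduceSub, Finset.prod_range_succ, Finset.prod_range_zero]
  norm_num [NT]

theorem aut_alt {T : Type*} [Group T] {m : ℕ} (h4 : 4 ≤ m) (h6 : m ≠ 6) (e : T ≃* alternatingGroup (Fin m)) :
    Nat.card (MulAut T) = 2 * Nat.card T := by
  have : Nontrivial (Fin m) := Fin.nontrivial_iff_two_le.2 (by omega)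
  rw [Nat.card_congr (MulAut.congr e).toEquiv, Nat.card_congr e.toEquiv, two_mul_nat_card_alternatingGroup,
    ← Nat.card_congr (Equiv.ofBijective _ (S2119.result m h4 h6))]

section
variable {T : Type} [Group T] [Finite T] [IsSimpleGroup T]

/-- `7` does not divide the order of the automorphism group -/
theorem not7_lie (hna : ¬ IsMulCommutative T) {g : Grp} {X : Art.Sh} {p f : ℕ} (hg : IsLie g X p f)
    (h : OrdDiv.Real g T) (hr : Art.Real X p f (Nat.card T))
    (hB : ¬ 7 ∣ 24 * f * ((p ^ f) ^ Art.NN X * Art.num X (p ^ f))) : ¬ 7 ∣ Nat.card (MulAut T) :=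
  fun h7 => hB (h7.trans (H105.O8.lie_dvd hna hg h hr))

theorem not7_l33 (hna : ¬ IsMulCommutative T) (h : IsL 3 3 T) : ¬ 7 ∣ Nat.card (MulAut T) := by
  obtain ⟨K, iK, iKf, hK, ⟨e⟩⟩ := h
  refine not7_lie hna (.psl 3 3 1) ⟨K, iK, iKf, by rw [hK]; norm_num, ⟨e⟩⟩ (X := .L 3) ?_ ?_
  · rw [Nat.card_congr e.toEquiv]
    exact psl_real (by norm_num) le_rfl (by rw [hK]; norm_num) (by norm_num) (by norm_num)
  · change ¬ 7 ∣ 24 * 1 * ((3 ^ 1) ^ (3 * (3 - 1) / 2) * ∏ i ∈ Finset.range (3 - 1), ((3 ^ 1) ^ (i + 2) - 1))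
    simp only [Nat.reduceSub, Finset.prod_range_succ, Finset.prod_range_zero]
    norm_num

theorem not7_u42 (hna : ¬ IsMulCommutative T) (h : IsU 4 2 T) : ¬ 7 ∣ Nat.card (MulAut T) := by
  obtain ⟨K, iK, iKf, hK, ⟨e⟩⟩ := h
  refine not7_lie hna (.psu 4 2 1) ⟨K, iK, iKf, by rw [hK]; norm_num, ⟨e⟩⟩ (X := .U 4) ?_ ?_
  · rw [Nat.card_congr e.toEquiv]
    exact psu_real (p := 2) (f := 1) (by norm_num) le_rfl (by rw [hK]; norm_num) (by norm_num) (by norm_num)
  · change ¬ 7 ∣ 24 * 1 * ((2 ^ 1) ^ (4 * (4 - 1) / 2) *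
      ∏ i ∈ Finset.range (4 - 1), (if Even i then (2 ^ 1) ^ (i + 2) - 1 else (2 ^ 1) ^ (i + 2) + 1))
    simp only [show 4 - 1 = 3 from rfl, Finset.prod_range_succ, Finset.prod_range_zero]
    norm_num [Nat.even_iff]

omit [Finite T] [IsSimpleGroup T] in
theorem dvd_u52 (h : IsU 5 2 T) : 11 ∣ Nat.card T := by
  obtain ⟨K, iK, iKf, hK, ⟨e⟩⟩ := h
  have h1 := (psu_real (F := K) (n := 5) (p := 2) (f := 1) (by norm_num) le_rfl (by rw [hK]; norm_num) (by norm_num)
    (by norm_num)).eq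
  rw [Nat.card_congr e.toEquiv]
  change Nat.gcd 5 (2 ^ 1 + 1) * _ = (2 ^ 1) ^ (5 * (5 - 1) / 2) *
      ∏ i ∈ Finset.range (5 - 1), (if Even i then (2 ^ 1) ^ (i + 2) - 1 else (2 ^ 1) ^ (i + 2) + 1) at h1
  simp only [show 5 - 1 = 4 from rfl, Finset.prod_range_succ, Finset.prod_range_zero] at h1
  norm_num [Nat.even_iff] at h1
  have h2 : Nat.card (PSU 5 K 2) = 13685760 := by
    have h3 : (2 : ℕ) ^ 1 = 2 := rfl
    simpa using h1
  rw [h2]
  norm_num

omit [Finite T] [IsSimpleGroup T] in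
theorem dvd_l2 {q : ℕ} (hq : q.Prime) (h4 : 4 ≤ q) (h : IsL 2 q T) : q ∣ Nat.card T := by
  obtain ⟨K, iK, iKf, hK, ⟨e⟩⟩ := h
  have h1 := (psl_real (F := K) (n := 2) (p := q) (f := 1) hq le_rfl (by rw [hK, pow_one]) le_rfl
    (fun _ => by rw [pow_one]; exact h4)).eq
  rw [Nat.card_congr e.toEquiv]
  change Nat.gcd 2 (q ^ 1 - 1) * _ = (q ^ 1) ^ (2 * (2 - 1) / 2) *
      ∏ i ∈ Finset.range (2 - 1), ((q ^ 1) ^ (i + 2) - 1) at h1
  have h2 : q ∣ Nat.gcd 2 (q ^ 1 - 1) * Nat.card (Matrix.ProjectiveSpecialLinearGroup (Fin 2) K) := by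
    rw [h1]
    norm_num
  rcases hq.dvd_mul.1 h2 with h3 | h3
  · have := Nat.le_of_dvd (by norm_num) (h3.trans (Nat.gcd_dvd_left _ _))
    omega
  · exact h3

end

/-- the scalars in the core are `± 1` -/
theorem scal_sq {F : Type} [Field F] [Fintype F] {R : Subgroup (T8 F)} {P : Subgroup (GL H708.O8.I8 F)}
    (hP : P ≤ pre (quadFormPlus 4 F) R) (ix : H708.O8.I8 ≃ Fin 8) :
    ∀ g ∈ H936.Reix.rx ix P, ∀ c : F, (g : Matrix (Fin 8) (Fin 8) F) = c • (1 : Matrix (Fin 8) (Fin 8) F) →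
      c * c = 1 := by
  intro g hg c hc
  obtain ⟨y, hy, rfl⟩ := H936.Reix.exists_of_mem_rx ix hg
  have h1 : (y : Matrix H708.O8.I8 H708.O8.I8 F) = c • (1 : Matrix H708.O8.I8 H708.O8.I8 F) := by
    rw [H936.Reix.gr_val, ← H936.Reix.reindex_smul_one ix c] at hc
    exact (Matrix.reindex ix ix).injective hc
  have h2 := pre_le (hP hy)
  have h3 : ∀ v : H708.O8.I8 → F, quadFormPlus 4 F ((y : Matrix H708.O8.I8 H708.O8.I8 F) *ᵥ v) = quadFormPlus 4 F v := by
    intro v
    exact h2 v 0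
  have h4 := h3 (fun i => if i = Sum.inl 0 ∨ i = Sum.inr 0 then 1 else 0)
  rw [h1, Matrix.smul_mulVec, Matrix.one_mulVec] at h4
  simp only [quadFormPlus, Fin.sum_univ_four, Pi.smul_apply, smul_eq_mul] at h4
  simpa using h4

/-- **(Q1)** cross characteristic, `q = 5` -/
theorem cross5 {F : Type} [Field F] [Fintype F] (hF : Nat.card F = 5) {R : Subgroup (T8 F)}
    (S : Subgroup R) [S.Normal] (hS : IsSimpleGroup S) (hna : ¬ IsMulCommutative S)
    (hC : Subgroup.centralizer (S : Set R) = ⊥) {P : Subgroup (GL H708.O8.I8 F)}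
    (hP : IsResidualCore (pre (quadFormPlus 4 F) R) P) (e : S ≃* Soc P) (hL : ¬ IsLieTypeChar 5 (Soc P))
    {x t : R} (hx : orderOf x = 7) (ht : orderOf t = 3) (hxt : x * t = t * x) :
    Nonempty (S ≃* alternatingGroup (Fin 10)) := by
  have hp5 : Fact (Nat.Prime 5) := ⟨by norm_num⟩
  have hch : CharP F 5 := H105.O8.charP_of (a := 1) (by norm_num) le_rfl (by rw [hF]; norm_num)
  let ix : H708.O8.I8 ≃ Fin 8 := finSumFinEquiv
  have hC' := H936.Reix.core_rx ix (core_of_residual hP)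
  have hsc := scal_sq hP.le ix
  have e₁ : S ≃* Soc (H936.Reix.rx ix P) := e.trans (H936.Reix.socEquiv ix P)
  have hL' : ¬ IsLieTypeChar 5 (Soc (H936.Reix.rx ix P)) := fun h =>
    hL (OddHalf.Known.isLieTypeChar_congr (H936.Reix.socEquiv ix P).symm h)
  have hsT : IsSimpleGroup (Soc (H936.Reix.rx ix P)) := hC'.simple
  have hnaT : ¬ IsMulCommutative (Soc (H936.Reix.rx ix P)) := hC'.nonabelian
  have hk : IsKnownSimple' (Soc (H936.Reix.rx ix P)) := Cfsg.Agent.S0000.result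
  have hfinT : Finite (Soc (H936.Reix.rx ix P)) := inferInstance
  have hcST : Nat.card (Soc (H936.Reix.rx ix P)) = Nat.card S := (Nat.card_congr e₁.toEquiv).symm
  have hdS : Nat.card S ∣ NT :=
    ((Subgroup.card_subgroup_dvd_card S).trans (Subgroup.card_subgroup_dvd_card R)).trans (card_t8 hF)
  have hRA : Nat.card R ∣ Nat.card (MulAut (Soc (H936.Reix.rx ix P))) := by
    rw [← Nat.card_congr (MulAut.congr e₁).toEquiv]
    exact dvd_aut S hC
  have h2F : (2 : F) ≠ 0 := by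
    have := cast_ne (F := F) (p := 5) Nat.prime_two (by norm_num)
    exact_mod_cast this
  generalize H936.Reix.rx ix P = P' at *
  -- tools
  have k7 : ¬ 7 ∣ Nat.card (MulAut (Soc P')) → False := fun h => h ((hx ▸ orderOf_dvd_natCard x).trans hRA)
  have kd : ∀ r : ℕ, ¬ r ∣ NT → r ∣ Nat.card (Soc P') → False := fun r h1 h2 => h1 ((hcST ▸ h2).trans hdS)
  have kN : ∀ N : ℕ, Nat.card (MulAut (Soc P')) = N * Nat.card (Soc P') → ¬ 7 ∣ N → ¬ 3 ∣ N →
      NS (Soc P') → False := fun N h1 h7 h3 hT =>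
    kill S hx ht hxt (by rw [← hcST, ← h1]; exact hRA) h7 h3 e₁ hT
  have kN' : ∀ N : ℕ, Nat.card (MulAut (Soc P')) = N * Nat.card (Soc P') → ¬ 7 ∣ N →
      NO (Soc P') → False := fun N h1 h7 hT =>
    kill' S hC hx ht hxt (by rw [← hcST, ← h1]; exact hRA) h7 e₁ hT
  have k11 : ¬ 11 ∣ NT := by norm_num [NT]
  have k17 : ¬ 17 ∣ NT := by norm_num [NT]
  have kl2 : ∀ q ∈ ({7, 8, 11, 13, 17, 19, 23, 25} : Finset ℕ), (q - 1) / Nat.gcd 2 (q - 1) ≤ 8 →
      IsL 2 q (Soc P') → False := by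
    intro q hq hle h
    simp only [Finset.mem_insert, Finset.mem_singleton] at hq
    rcases hq with rfl | rfl | rfl | rfl | rfl | rfl | rfl | rfl
    · obtain ⟨K, iK, iKf, hK, ⟨f⟩⟩ := h
      have : Fact (Nat.Prime 7) := ⟨by norm_num⟩
      have h1 := Cfsg.Agent.S0813.result (F := K) 7 1 le_rfl (by rw [hK]; norm_num) 2 le_rfl (fun _ => by norm_num)
      rw [H364.OutLie.card_pgl le_rfl, hK] at h1
      refine kN 2 ?_ (by norm_num) (by norm_num) ((ns_psl hK).congr f)
      rw [Nat.card_congr (MulAut.congr f).toEquiv, h1, Nat.card_congr f.toEquiv]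
      norm_num
    · obtain ⟨K, iK, iKf, hK, ⟨f⟩⟩ := h
      have h1 := Cfsg.Agent.S0813.result (F := K) 2 3 (by norm_num) (by rw [hK]; norm_num) 2 le_rfl
        (fun _ => by norm_num)
      rw [H364.OutLie.card_pgl le_rfl, hK] at h1
      have : CharP K 2 := charP_of_dvd Nat.prime_two (by rw [hK]; norm_num)
      refine kN' 3 ?_ (by norm_num) ((no_psl hK).congr f)
      rw [Nat.card_congr (MulAut.congr f).toEquiv, h1, Nat.card_congr f.toEquiv]
      norm_num
    · exact kd 11 k11 (dvd_l2 (by norm_num) (by norm_num) h)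
    · obtain ⟨K, iK, iKf, hK, ⟨f⟩⟩ := h
      have := H464.Sl2.l2_degrees 5 hC' (K := K) (by omega) (by omega) (by rw [hK]; norm_num) f (by simp)
      simp [hK] at this
    · exact kd 17 k17 (dvd_l2 (by norm_num) (by norm_num) h)
    · norm_num at hle
    · norm_num at hle
    · norm_num at hle
  have ksp : IsS 3 2 (Soc P') → False := by
    rintro ⟨K, iK, iKf, hK, ⟨f⟩⟩
    have h1 := Cfsg.Agent.S0814.result (F := K) 2 1 le_rfl (by rw [hK]; norm_num) 3 (by norm_num)
      (fun h => by norm_num at h)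
    refine kN 1 ?_ (by norm_num) (by norm_num) ((ns_psp hK).congr f)
    rw [Nat.card_congr (MulAut.congr f).toEquiv, h1, Nat.card_congr f.toEquiv]
    norm_num
  have kop : IsOP 4 2 (Soc P') → False := by
    rintro ⟨K, iK, iKf, hK, ⟨f⟩⟩
    have h1 := Cfsg.Agent.S0817.result (F := K) 2 1 le_rfl (by rw [hK]; norm_num) 4 le_rfl
    have h2 : Nat.card (Soc P') = 174182400 := by
      rw [Nat.card_congr f.toEquiv]
      exact card_oplus hK
    have h3 : Nat.card R = Nat.card (R ⧸ S) * Nat.card S := Subgroup.card_eq_card_quotient_mul_card_subgroup S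
    have h4 : Nat.card (R ⧸ S) ∣ 6 := by
      have h5 := hRA
      rw [Nat.card_congr (MulAut.congr f).toEquiv, h1, ← Nat.card_congr f.toEquiv, hcST, h3] at h5
      have h6 := Nat.dvd_of_mul_dvd_mul_right Nat.card_pos h5
      norm_num at h6
      exact h6
    have h5 : ¬ 3 ∣ Nat.card (R ⧸ S) := by
      rintro ⟨c, hc⟩
      have h6 : Nat.card R ∣ NT := (Subgroup.card_subgroup_dvd_card R).trans (card_t8 hF)
      rw [h3, hc, ← hcST, h2] at h6
      have h7 : 3 * 174182400 ∣ NT := Dvd.dvd.trans ⟨c, by ring⟩ h6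
      norm_num [NT] at h7
    have h6 : ¬ 7 ∣ Nat.card (R ⧸ S) := fun h7 => by
      have := h7.trans h4
      norm_num at this
    exact kill S hx ht hxt (dvd_of_eq h3) h6 h5 (e₁.trans f) (ns_oplus hK)
  have klie : LieC 5 8 (Soc P') → False := by
    rintro (⟨q, hq, -, h2, h3⟩ | ⟨-, -, h⟩ | ⟨-, -, h⟩ | ⟨-, h, -⟩ | ⟨-, -, -, h⟩ | ⟨-, -, h⟩ | ⟨-, h, -⟩ |
      ⟨-, -, h⟩ | ⟨-, -, h⟩)
    · exact kl2 q hq h2 h3
    · exact k7 (not7_l33 hnaT h)
    · obtain ⟨K, iK, iKf, hK, ⟨f⟩⟩ := h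
      have := (H659.U3.u33_stage hC' 5 (by norm_num) (by norm_num) (by simp) (by rw [hK]; norm_num) f).2
      simp at this
    · omega
    · exact k7 (not7_u42 hnaT h)
    · exact kd 11 k11 (dvd_u52 h)
    · omega
    · exact ksp h
    · exact kop h
  have kspor : ∀ (g : OrdDiv.Grp × ℕ), g ∈ OrdDiv.spor → OrdDiv.Real g.1 (Soc P') →
      (11 ∣ g.2 ∨ 17 ∣ g.2) → False := by
    intro g hg hr h
    have h1 := OrdDiv.table.spor (Soc P') g hg hr
    rcases h with h | h
    · exact kd 11 k11 (h1 ▸ h)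
    · exact kd 17 k17 (h1 ▸ h)
  rcases list₁ (p := 5) (n := 8) (by norm_num) hC' hk hL' with (h | h | h | h | h) | h
  · obtain ⟨m, h5, h14, -, -, h12, ⟨f⟩⟩ := h
    have h14' : m ≤ 13 := by
      by_contra hc
      have := h12 (by omega)
      omega
    rcases (show m = 5 ∨ m = 6 ∨ (7 ≤ m ∧ m ≤ 9) ∨ m = 10 ∨ 11 ≤ m by omega) with rfl | rfl | ⟨h7, h9⟩ | rfl | h11
    · refine (k7 ?_).elim
      rw [Nat.card_congr (MulAut.congr f).toEquiv,
        ← Nat.card_congr (Equiv.ofBijective _ (S2119.result 5 (by norm_num) (by norm_num))), Nat.card_eq_fintype_card,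
        Fintype.card_perm, Fintype.card_fin]
      decide
    · refine (k7 ?_).elim
      rw [Nat.card_congr (MulAut.congr f).toEquiv, H824.ProdLem.card_aut_a6]
      norm_num
    · exact (kN 2 (aut_alt (by omega) (by omega) f) (by norm_num) (by norm_num) ((ns_alt h9).congr f)).elim
    · exact ⟨e₁.trans f⟩
    · refine (kd 11 k11 ?_).elim
      have : Nontrivial (Fin m) := Fin.nontrivial_iff_two_le.2 (by omega)
      have h1 := two_mul_nat_card_alternatingGroup (α := Fin m)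
      rw [Nat.card_eq_fintype_card (α := Equiv.Perm (Fin m)), Fintype.card_perm, Fintype.card_fin,
        ← Nat.card_congr f.toEquiv] at h1
      have h2 : 11 ∣ 2 * Nat.card (Soc P') := by
        rw [h1]
        exact Nat.dvd_factorial (by norm_num) h11
      exact (Nat.Coprime.dvd_of_dvd_mul_left (by norm_num) h2)
  · exact (klie h).elim
  · rcases h with ⟨-, -, h⟩ | ⟨-, h, -⟩
    · rcases h with h | h | ⟨-, h⟩ | h | h | h
      · exact (kl2 7 (by simp) (by norm_num) h).elim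
      · obtain ⟨K, iK, iKf, hK, ⟨f⟩⟩ := h
        exact (no_l34 h2F hC' hsc hK f).elim
      · exact (k7 (not7_u42 hnaT h)).elim
      · exact (ksp h).elim
      · exact (kop h).elim
      · have := (H937.G24.row hC' h 5 (by norm_num) (by simp)).1
        simp at this
    · omega
  · obtain ⟨-, -, K, iK, iKf, hK, ⟨f⟩⟩ := h
    have hK' : Fintype.card K = 2 ^ (2 * 1 + 1) := by rw [hK]; norm_num
    refine (kN' 3 ?_ (by norm_num) ((no_sz hK').congr f)).elim
    rw [← H934.OutB.card_out_mul _ hnaT]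
    congr 1
    have h1 := Cfsg.Agent.S2126.result (F := K) (m := 1) le_rfl hK'
    rw [H934.OutB.card_out_congr f]
    exact h1
  · exfalso
    rcases h with h | h | h | h | h | h | h | h | h
    · exact kspor (.m11, 7920) (by simp [spor]) h (by norm_num)
    · exact kspor (.m12, 95040) (by simp [spor]) h (by norm_num)
    · exact kspor (.m22, 443520) (by simp [spor]) h (by norm_num)
    · exact kspor (.m23, 10200960) (by simp [spor]) h (by norm_num)
    · exact kspor (.m24, 244823040) (by simp [spor]) h (by norm_num)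
    · exact kspor (.j1, 175560) (by simp [spor]) h (by norm_num)
    · have h1 : Nat.card (Cfsg.Out (Soc P')) ≤ 2 := H498.SporOut.index_le_two (by unfold IsSporadicGroup; tauto)
      have h2 : 0 < Nat.card (Cfsg.Out (Soc P')) := Nat.card_pos
      refine kN (Nat.card (Cfsg.Out (Soc P'))) (H934.OutB.card_out_mul _ hnaT).symm ?_ ?_ (ns_j2 h)
      · intro h3
        have := Nat.le_of_dvd h2 h3
        omega
      · intro h3
        have := Nat.le_of_dvd h2 h3
        omega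
    · exact kspor (.j3, 50232960) (by simp [spor]) h (by norm_num)
    · exact kspor (.suz, 448345497600) (by simp [spor]) h (by norm_num)
  · have := h.1
    norm_num at this

end Cfsg.Agent.H729.SprO8
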