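import Cfsg.Agent.H729.SprO8.Alt
import Cfsg.Agent.H118.O8S.Psl2

/-!
# S3938-OPLUS8, `q = 5`: an automorphism of order 3 of `PSL₂(8)` fixes no element of order 7 (helper729)
-/

set_option autoImplicit false

namespace Cfsg.Agent.H729.SprO8

open Matrix
open scoped MatrixGroups
open Cfsg.Agent.Ree.PSLTori (tr)
open Cfsg.Agent.ClassicalGeometry.AutPSL.Root (pr pr_surjective)
open Cfsg.Agent.ClassicalGeometry.AutPSL.Auto (cj fld lift lift_pr)
open Cfsg.Agent.ClassicalGeometry.AutPSL.Main (surj_two)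
open Cfsg.Agent.H118.O8S

/-- no element of order 7 fixed by an automorphism of order 3 -/
def NO (T : Type*) [Group T] : Prop := ∀ (a : T) (b : MulAut T), orderOf a = 7 → orderOf b = 3 → b a = a → False

theorem NO.congr {S T : Type*} [Group S] [Group T] (e : S ≃* T) (h : NO T) : NO S := by
  intro a b ha hb hab
  refine h (e a) (MulAut.congr e b) (by rw [MulEquiv.orderOf_eq, ha]) (by rw [MulEquiv.orderOf_eq, hb]) ?_
  change e (b (e.symm (e a))) = e a
  rw [e.symm_apply_apply, hab]

theorem exists_lin {K : Type*} [Field K] (X D : Matrix (Fin 2) (Fin 2) K) (hX : ∀ c : K, X ≠ c • 1)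
    (h : D * X = X * D) : ∃ u v : K, D = u • 1 + v • X := by
  have e := fun i j => congrFun (congrFun h i) j
  have e00 := e 0 0
  have e01 := e 0 1
  have e10 := e 1 0
  simp only [Matrix.mul_apply, Fin.sum_univ_two] at e00 e01 e10
  by_cases hb : X 0 1 = 0
  · by_cases hc : X 1 0 = 0
    · have hd : X 0 0 - X 1 1 ≠ 0 := by
        intro hd
        apply hX (X 0 0)
        ext i j
        fin_cases i <;> fin_cases j
        · simp
        · simpa using hb
        · simpa using hc
        · simp; linear_combination -hd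
      refine ⟨D 0 0 - (D 0 0 - D 1 1) / (X 0 0 - X 1 1) * X 0 0, (D 0 0 - D 1 1) / (X 0 0 - X 1 1), ?_⟩
      have h1 : D 0 1 = 0 := by
        have : D 0 1 * (X 0 0 - X 1 1) = 0 := by rw [hb] at e01; linear_combination -e01
        exact (mul_eq_zero.1 this).resolve_right hd
      have h2 : D 1 0 = 0 := by
        have : D 1 0 * (X 0 0 - X 1 1) = 0 := by rw [hc] at e10; linear_combination e10
        exact (mul_eq_zero.1 this).resolve_right hd
      ext i j
      fin_cases i <;> fin_cases j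
      · simp
      · simp [hb, h1]
      · simp [hc, h2]
      · simp; field_simp; ring
    · refine ⟨D 1 1 - D 1 0 / X 1 0 * X 1 1, D 1 0 / X 1 0, ?_⟩
      ext i j
      fin_cases i <;> fin_cases j
      · simp; field_simp; linear_combination -e10
      · simp; field_simp; linear_combination e00
      · simp; field_simp
      · simp
  · refine ⟨D 0 0 - D 0 1 / X 0 1 * X 0 0, D 0 1 / X 0 1, ?_⟩
    ext i j
    fin_cases i <;> fin_cases j
    · simp
    · simp; field_simp
    · simp; field_simp; linear_combination -e00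
    · simp; field_simp; linear_combination -e01

section

variable {K : Type*} [Field K] [Fintype K] [CharP K 2]

omit [Fintype K] in
theorem neg_eq (M : SL(2, K)) : -M = M := by
  ext i j
  rw [Matrix.SpecialLinearGroup.coe_neg, Matrix.neg_apply, CharTwo.neg_eq]

/-- an element which commutes with an element of order 7 -/
theorem pow_eight (hK : Fintype.card K = 8) (X D : SL(2, K)) (hX7 : X ^ 7 = 1) (hX1 : X ≠ 1) (h : D * X = X * D) :
    D ^ 7 = 1 := by
  have hns : ∀ c : K, (X : Matrix (Fin 2) (Fin 2) K) ≠ c • 1 := by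
    intro c hc
    have hd := X.2
    rw [hc, det_smul, Fintype.card_fin, det_one, mul_one] at hd
    have hc1 : c = 1 := by
      have h2 : (c + 1) ^ 2 = 0 := by
        have h20 : (2 : K) = 0 := CharTwo.two_eq_zero
        linear_combination hd + (1 + c) * h20
      have h3 := pow_eq_zero_iff (two_ne_zero) |>.1 h2
      rw [← CharTwo.neg_eq (1 : K)]
      linear_combination h3
    apply hX1
    apply Subtype.ext
    rw [hc, hc1, one_smul]
    rfl
  obtain ⟨u, v, huv⟩ := exists_lin (X : Matrix (Fin 2) (Fin 2) K) D hns (congrArg Subtype.val h)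
  have hX8 : (X : Matrix (Fin 2) (Fin 2) K) ^ 2 ^ 3 = X := by
    have h1 : X ^ 2 ^ 3 = X := by
      rw [show 2 ^ 3 = 7 + 1 by norm_num, pow_succ, hX7, one_mul]
    exact congrArg Subtype.val h1
  have hp : ∀ c : K, c ^ 2 ^ 3 = c := fun c => by
    rw [show 2 ^ 3 = Fintype.card K by rw [hK]; norm_num]
    exact FiniteField.pow_card c
  have hc : Commute (u • (1 : Matrix (Fin 2) (Fin 2) K)) (v • (X : Matrix (Fin 2) (Fin 2) K)) :=
    ((Commute.one_left _).smul_left u)
  have h8 : (D : Matrix (Fin 2) (Fin 2) K) ^ 2 ^ 3 = D := by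
    rw [huv, add_pow_char_pow_of_commute 2 3 hc, smul_pow, smul_pow, hX8, hp, hp, one_pow]
  have h8' : D ^ 2 ^ 3 = D := Subtype.ext h8
  have h9 : D ^ 7 * D = 1 * D := by
    rw [← pow_succ, one_mul]
    exact h8'
  exact mul_right_cancel h9

theorem no_psl (hK : Fintype.card K = 8) : NO (Matrix.ProjectiveSpecialLinearGroup (Fin 2) K) := by
  intro a b ha hb hab
  have : Fact (Nat.Prime 2) := ⟨Nat.prime_two⟩
  obtain ⟨X₀, hX₀⟩ := pr_surjective a
  have h7 : (X₀ ^ 7) ^ 2 = 1 := by
    have h1 : pr (X₀ ^ 7) = 1 := by rw [map_pow, hX₀, ← ha, pow_orderOf_eq_one]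
    rcases (Cfsg.Agent.ClassicalGeometry.PSLTorus.pr_eq_one_iff _).1 h1 with h2 | h2
    · rw [h2, one_pow]
    · rw [h2, neg_one_sq]
  obtain ⟨X, hX⟩ : ∃ X, X = X₀ ^ 8 := ⟨_, rfl⟩
  have hpr : pr X = a := by
    rw [hX, map_pow, hX₀, pow_succ, ← ha, pow_orderOf_eq_one, one_mul]
  have hX7 : X ^ 7 = 1 := by
    rw [hX, ← pow_mul, show 8 * 7 = 7 * 2 * 4 by norm_num, pow_mul, pow_mul, h7, one_pow]
  have hX1 : X ≠ 1 := by
    rintro rfl
    rw [map_one] at hpr
    rw [← hpr, orderOf_one] at ha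
    norm_num at ha
  obtain ⟨A, σ, rfl⟩ := surj_two 2 b
  have h1 : pr ((cj A * fld σ : MulAut SL(2, K)) X) = pr X := by
    rw [← lift_pr, hpr, hab]
  have hfix : (cj A * fld σ : MulAut SL(2, K)) X = X := by
    rcases (Cfsg.Agent.ClassicalGeometry.PSLTorus.pr_eq_iff _ _).1 h1 with h2 | h2
    · exact h2
    · rw [h2, neg_eq]
  obtain ⟨τ, hτ⟩ : ∃ τ, τ = tr X := ⟨_, rfl⟩
  have hσ : σ τ = τ := by
    have h2 := congrArg tr hfix
    rw [MulAut.mul_apply, tr_cj, tr_fld, ← hτ] at h2
    exact h2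
  obtain ⟨i, hi⟩ := exists_frob (p := 2) σ
  have hp : ∀ c : K, c ^ 8 = c := fun c => by
    rw [← hK]
    exact FiniteField.pow_card c
  have hp3 : ∀ (k : ℕ) (c : K), c ^ 8 ^ k = c := by
    intro k c
    induction k with
    | zero => rw [pow_zero, pow_one]
    | succ k ih => rw [pow_succ, pow_mul, ih, hp]
  have hmod : ∀ c : K, σ c = c ^ 2 ^ (i % 3) := by
    intro c
    rw [hi]
    conv_lhs => rw [← Nat.div_add_mod i 3, pow_add, pow_mul, pow_mul, show 2 ^ 3 = 8 by norm_num, hp3]
  have hsq := sq_eq X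
  have key : τ ^ 2 = τ → False := by
    intro h2
    have h3 : τ * (τ - 1) = 0 := by linear_combination h2
    have hfin : ∀ n, Nat.Coprime 7 n → X ^ n = 1 → False := by
      intro n hn hXn
      have h4 := orderOf_dvd_of_pow_eq_one hX7
      have h5 := orderOf_dvd_of_pow_eq_one hXn
      have h6 := Nat.dvd_gcd h4 h5
      rw [hn] at h6
      exact hX1 (orderOf_eq_one_iff.1 (Nat.dvd_one.1 h6))
    rcases mul_eq_zero.1 h3 with h4 | h4
    · rw [← hτ, h4, zero_smul, zero_sub] at hsq
      refine hfin 4 (by norm_num) ?_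
      apply Subtype.ext
      change (X : Matrix (Fin 2) (Fin 2) K) ^ 4 = 1
      rw [show (4 : ℕ) = 2 * 2 by norm_num, pow_mul, pow_two (X : Matrix (Fin 2) (Fin 2) K), hsq, neg_one_sq]
    · rw [← hτ, sub_eq_zero.1 h4, one_smul] at hsq
      refine hfin 6 (by norm_num) ?_
      apply Subtype.ext
      change (X : Matrix (Fin 2) (Fin 2) K) ^ 6 = 1
      have h5 : (X : Matrix (Fin 2) (Fin 2) K) ^ 3 = -1 := by
        rw [pow_succ, pow_two, hsq, sub_mul, hsq, one_mul]
        abel
      rw [show (6 : ℕ) = 3 * 2 by norm_num, pow_mul, h5, neg_one_sq]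
  have h3 : i % 3 < 3 := Nat.mod_lt _ (by norm_num)
  have h4 : i % 3 = 0 ∨ i % 3 = 1 ∨ i % 3 = 2 := by omega
  rcases h4 with h4 | h4 | h4
  · -- linear
    have hσ1 : σ = 1 := by
      apply RingEquiv.ext
      intro c
      rw [hmod, h4, pow_zero, pow_one]
      rfl
    rw [hσ1, map_one, mul_one] at hb hab hfix
    obtain ⟨D, hD⟩ := exists_sq A
    have hD2 : (lift (cj A) : MulAut (Matrix.ProjectiveSpecialLinearGroup (Fin 2) K)) ^ 2 = MulAut.conj (pr D) := by
      rw [← map_pow, ← map_pow, pow_two]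
      apply MulEquiv.ext
      intro z
      obtain ⟨y, rfl⟩ := pr_surjective z
      rw [lift_pr, hD, MulAut.conj_apply, map_mul, map_mul, map_inv]
    have hDX : D * X = X * D := by
      have h5 := hD X
      rw [map_mul, MulAut.mul_apply, hfix, hfix] at h5
      rw [eq_mul_inv_iff_mul_eq] at h5
      exact h5.symm
    have hD7 := pow_eight hK X D hX7 hX1 hDX
    have h14 : (lift (cj A) : MulAut (Matrix.ProjectiveSpecialLinearGroup (Fin 2) K)) ^ 14 = 1 := by
      rw [show (14 : ℕ) = 2 * 7 by norm_num, pow_mul, hD2, ← map_pow, ← map_pow, hD7, map_one, map_one]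
    have h5 := orderOf_dvd_of_pow_eq_one h14
    rw [hb] at h5
    norm_num at h5
  · apply key
    have h5 := hmod τ
    rw [hσ, h4, pow_one] at h5
    exact h5.symm
  · apply key
    have h5 := hmod τ
    rw [hσ, h4] at h5
    norm_num at h5
    have h6 := hp τ
    calc τ ^ 2 = (τ ^ 4) ^ 2 := by rw [← h5]
      _ = τ ^ 8 := by ring
      _ = τ := h6

end

end Cfsg.Agent.H729.SprO8
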