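import Cfsg.Agent.H729.SprO8.SzEight
import Cfsg.Agent.H732.SelfCentO
import Cfsg.Agent.H715.Fpr.J2
import Cfsg.Agent.H109.PD.PslA
import Cfsg.Agent.H105.O8.Cross

/-!
# S3938-OPLUS8, `q = 5`: groups without commuting elements of order 7 and 3 (helper729)
-/

set_option autoImplicit false

namespace Cfsg.Agent.H729.SprO8

open Cfsg

/-! ### general -/

theorem ns_of_ne {T : Type*} [Group T] (h : ∀ g : T, orderOf g ≠ 7 * 3) : NS T := by
  intro a b ha hb hab
  apply h (a * b)
  have hc : Commute a b := hab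
  rw [hc.orderOf_mul_eq_mul_orderOf_of_coprime (by rw [ha, hb]; norm_num), ha, hb]

theorem ns_of_selfcent {G : Type*} [Group G] [Finite G] (h2 : ¬ 7 ^ 2 ∣ Nat.card G) {D : Subgroup G}
    (hD : Nat.card D = 7) (hDc : Subgroup.centralizer (D : Set G) = D) : NS G := by
  intro a b ha hb hab
  obtain ⟨g, hg⟩ := exists_conj_mem (by norm_num) h2 hD ha
  have h7 : Nat.Prime 7 := by norm_num
  have ho : orderOf (g * a * g⁻¹) = 7 := by
    rw [← ha]
    exact orderOf_injective (MulAut.conj g).toMonoidHom (MulAut.conj g).injective a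
  have hz : Subgroup.zpowers (g * a * g⁻¹) = D :=
    Subgroup.eq_of_le_of_card_ge (Subgroup.zpowers_le.2 hg) (by rw [hD, Nat.card_zpowers, ho])
  have hb' : g * b * g⁻¹ ∈ D := by
    rw [← hDc, ← hz, Subgroup.mem_centralizer_iff]
    rintro _ ⟨n, rfl⟩
    have hc : Commute (g * a * g⁻¹) (g * b * g⁻¹) := by
      change g * a * g⁻¹ * (g * b * g⁻¹) = g * b * g⁻¹ * (g * a * g⁻¹)
      calc g * a * g⁻¹ * (g * b * g⁻¹) = g * (a * b) * g⁻¹ := by group
        _ = g * (b * a) * g⁻¹ := by rw [hab]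
        _ = _ := by group
    exact (hc.zpow_left n).eq
  have ho' : orderOf (g * b * g⁻¹) = 3 := by
    rw [← hb]
    exact orderOf_injective (MulAut.conj g).toMonoidHom (MulAut.conj g).injective b
  have h3 := orderOf_dvd_natCard (⟨_, hb'⟩ : D)
  rw [Subgroup.orderOf_mk, ho', hD] at h3
  norm_num at h3

section
variable {R : Type*} [Group R] [Finite R] (S : Subgroup R) [S.Normal] {x t : R}

theorem mem_of_card {r N : ℕ} (hr : r.Prime) (h : Nat.card R ∣ N * Nat.card S) (hN : ¬ r ∣ N) {y : R}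
    (hy : orderOf y = r) : y ∈ S := by
  have h1 : Nat.card (R ⧸ S) ∣ N := by
    rw [Subgroup.card_eq_card_quotient_mul_card_subgroup S] at h
    exact Nat.dvd_of_mul_dvd_mul_right Nat.card_pos h
  have h2 : orderOf (QuotientGroup.mk' S y) ∣ r := by
    rw [← hy]
    exact orderOf_map_dvd (QuotientGroup.mk' S) y
  rw [← QuotientGroup.eq_one_iff, ← orderOf_eq_one_iff]
  rcases (Nat.dvd_prime hr).1 h2 with h3 | h3
  · exact h3
  · exact absurd ((h3 ▸ orderOf_dvd_natCard (QuotientGroup.mk' S y)).trans h1) hN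

theorem kill (hx : orderOf x = 7) (ht : orderOf t = 3) (hxt : x * t = t * x) {N : ℕ}
    (hN : Nat.card R ∣ N * Nat.card S) (h7 : ¬ 7 ∣ N) (h3 : ¬ 3 ∣ N) {T : Type*} [Group T] (e : S ≃* T)
    (hT : NS T) : False := by
  have h1 := mem_of_card S (by norm_num) hN h7 hx
  have h2 := mem_of_card S (by norm_num) hN h3 ht
  refine hT.congr e ⟨x, h1⟩ ⟨t, h2⟩ (by rw [Subgroup.orderOf_mk, hx]) (by rw [Subgroup.orderOf_mk, ht]) ?_
  exact Subtype.ext hxt

theorem kill' (hC : Subgroup.centralizer (S : Set R) = ⊥) (hx : orderOf x = 7) (ht : orderOf t = 3)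
    (hxt : x * t = t * x) {N : ℕ} (hN : Nat.card R ∣ N * Nat.card S) (h7 : ¬ 7 ∣ N) {T : Type*} [Group T]
    (e : S ≃* T) (hT : NO T) : False := by
  have h1 := mem_of_card S (by norm_num) hN h7 hx
  refine hT.congr e ⟨x, h1⟩ (MulAut.conjNormal t) (by rw [Subgroup.orderOf_mk, hx]) ?_ ?_
  · apply orderOf_eq_prime
    · rw [← map_pow, ← ht, pow_orderOf_eq_one, map_one]
    · intro h2
      have h3 : t ∈ Subgroup.centralizer (S : Set R) := by
        rw [Subgroup.mem_centralizer_iff]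
        intro s hs
        have h4 := congrArg (fun φ : MulAut S => ((φ ⟨s, hs⟩ : S) : R)) h2
        simp only [MulAut.conjNormal_apply, MulAut.one_apply] at h4
        rw [mul_inv_eq_iff_eq_mul] at h4
        exact h4.symm
      rw [hC, Subgroup.mem_bot] at h3
      rw [h3, orderOf_one] at ht
      norm_num at ht
  · apply Subtype.ext
    rw [MulAut.conjNormal_apply]
    change t * x * t⁻¹ = x
    rw [← hxt, mul_inv_cancel_right]

end

/-! ### the groups -/

theorem ns_psl {K : Type*} [Field K] [Fintype K] (hK : Fintype.card K = 7) :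
    NS (Matrix.ProjectiveSpecialLinearGroup (Fin 2) K) := by
  intro a b ha hb hab
  have hpf : Fact (Nat.Prime 7) := ⟨by norm_num⟩
  have hch : CharP K 7 := H936.List12.charP_of_dvd (by norm_num) (by rw [hK])
  have h1 : a ^ 7 = 1 := by rw [← ha, pow_orderOf_eq_one]
  have h2 : a ≠ 1 := by
    rintro rfl
    rw [orderOf_one] at ha
    norm_num at ha
  have h3 := Cfsg.Agent.H109.PD.pow_char_of_comm (p := 7) h1 h2 hab.symm
  have h4 := orderOf_dvd_of_pow_eq_one h3
  rw [hb] at h4
  norm_num at h4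

theorem ns_psp {K : Type*} [Field K] [Fintype K] (hK : Fintype.card K = 2) : NS (PSp 3 K) :=
  ns_of_ne (H732.SelfCent.psp_six_two_ne hK)

theorem card_oplus {K : Type} [Field K] [Fintype K] (hK : Fintype.card K = 2) :
    Nat.card (POmega K (quadFormPlus 4 K)) = 174182400 := by
  have h4 := (H902.Names.oplus_real (F := K) (m := 4) (p := 2) (f := 1) Nat.prime_two le_rfl
    (by rw [hK]; norm_num) le_rfl).eq
  change Nat.gcd 4 ((2 ^ 1) ^ 4 - 1) * _ = (2 ^ 1) ^ (4 * (4 - 1)) *
    (((2 ^ 1) ^ 4 - 1) * ∏ i ∈ Finset.range (4 - 1), ((2 ^ 1) ^ (2 * (i + 1)) - 1)) at h4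
  simp only [Nat.reduceSub, Finset.prod_range_succ, Finset.prod_range_zero] at h4
  norm_num at h4
  omega

theorem ns_oplus {K : Type} [Field K] [Fintype K] (hK : Fintype.card K = 2) : NS (POmega K (quadFormPlus 4 K)) := by
  obtain ⟨D, h1, h2⟩ := Cfsg.Agent.H732.SelfCent.omega8plus_selfcent hK
  have h3 := card_oplus hK
  have hfin : Finite (POmega K (quadFormPlus 4 K)) := Nat.finite_of_card_ne_zero (by rw [h3]; norm_num)
  exact ns_of_selfcent (by rw [h3]; norm_num) h1 h2

theorem ns_j2 {T : Type} [Group T] (h : Spor.IsoJ2 T) : NS T := by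
  intro a b ha hb hab
  have := H715.Fpr.J2.fin h
  obtain ⟨z, u, hF⟩ := H715.Fpr.J2.fus h
  apply J2Type.ThreeF.not_seven_dvd_three hF b hb
  rw [← ha]
  have h1 := orderOf_dvd_natCard (⟨a, Subgroup.mem_centralizer_singleton_iff.2 hab⟩ :
    Subgroup.centralizer ({b} : Set T))
  rwa [Subgroup.orderOf_mk] at h1

end Cfsg.Agent.H729.SprO8
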