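import Cfsg.Agent.H729.SprO8.LEight
import Cfsg.Agent.H70.SzOut

/-!
# S3938-OPLUS8, `q = 5`: an automorphism of order 3 of `Sz(8)` fixes no element of order 7 (helper729)
-/

set_option autoImplicit false

namespace Cfsg.Agent.H729.SprO8

open Cfsg Cfsg.Agent.ThreePrime Cfsg.Agent.ThreePrime.SzRel Cfsg.Agent.LieRecognition.SzMatrix Cfsg.Agent.H70.SzOut
open Cfsg.Agent.H118.O8S (exists_frob)

theorem exists_conj_mem {G : Type*} [Group G] [Finite G] {p : ℕ} (hp : p.Prime) (h2 : ¬ p ^ 2 ∣ Nat.card G)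
    {D : Subgroup G} (hD : Nat.card D = p) {a : G} (ha : orderOf a = p) : ∃ g : G, g * a * g⁻¹ ∈ D := by
  have := Fact.mk hp
  have key : ∀ H : Subgroup G, Nat.card H = p → ∃ P : Sylow p G, (P : Subgroup G) = H := by
    intro H hH
    obtain ⟨P, hP⟩ := (IsPGroup.of_card (n := 1) (by rw [hH, pow_one])).exists_le_sylow (P := H)
    refine ⟨P, (Subgroup.eq_of_le_of_card_ge hP ?_).symm⟩
    obtain ⟨n, hn⟩ := (IsPGroup.iff_card.1 P.2)
    have h1 : n < 2 := by
      by_contra h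
      exact h2 ((pow_dvd_pow p (by omega : 2 ≤ n)).trans (hn ▸ Subgroup.card_subgroup_dvd_card _))
    rw [hn, hH]
    calc p ^ n ≤ p ^ 1 := Nat.pow_le_pow_right hp.pos (by omega)
      _ = p := pow_one p
  obtain ⟨P, hP⟩ := key D hD
  obtain ⟨Q, hQ⟩ := key (Subgroup.zpowers a) (by rw [Nat.card_zpowers, ha])
  obtain ⟨g, hg⟩ := MulAction.exists_smul_eq G Q P
  refine ⟨g, ?_⟩
  rw [← hP, ← hg]
  have h1 : (g • Q : Sylow p G) = ((g • Q : Sylow p G) : Subgroup G) := rfl
  change g * a * g⁻¹ ∈ ((g • Q : Sylow p G) : Subgroup G)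
  rw [Sylow.coe_subgroup_smul, hQ, Subgroup.mem_pointwise_smul_iff_inv_smul_mem]
  have h3 : (MulAut.conj g)⁻¹ • (g * a * g⁻¹) = a := by
    rw [← map_inv, MulAut.smul_def, MulAut.conj_apply]
    group
  rw [h3]
  exact Subgroup.mem_zpowers a

variable {F : Type*} [Field F] [Fintype F]

/-- the trace -/
def tz {e : ℕ} (g : ↥(Cfsg.Lie.Sz F e)) : F := ((g : GL (Fin 4) F) : Matrix (Fin 4) (Fin 4) F).trace

omit [Fintype F] in
theorem tz_conj {e : ℕ} (g h : ↥(Cfsg.Lie.Sz F e)) : tz (g * h * g⁻¹) = tz h := by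
  unfold tz
  rw [Subgroup.coe_mul, Subgroup.coe_mul, Subgroup.coe_inv, Units.val_mul, Matrix.trace_mul_comm, ← Units.val_mul,
    inv_mul_cancel_left]

theorem no_sz (hF : Fintype.card F = 2 ^ (2 * 1 + 1)) : NO ↥(Cfsg.Lie.Sz F (2 ^ (1 + 1))) := by
  intro a b ha hb hab
  have : Fact (Nat.Prime 2) := ⟨Nat.prime_two⟩
  have hch : CharP F 2 := by
    obtain ⟨p', hp'⟩ := CharP.exists F
    obtain ⟨n, hpp, hn⟩ := FiniteField.card F p'
    have h1 : p' ∣ 2 ^ (2 * 1 + 1) := by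
      rw [← hF, hn]
      exact dvd_pow_self p' n.ne_zero
    have h2 : p' = 2 := (Nat.prime_dvd_prime_iff_eq hpp Nat.prime_two).1 (hpp.dvd_of_dvd_pow h1)
    rw [← h2]
    exact hp'
  have hF8 : Fintype.card F = 8 := by rw [hF]; norm_num
  have hcard := (Cfsg.Agent.S1163.result (F := F) (m := 1) le_rfl hF).1
  have hcard' : Nat.card ↥(Cfsg.Lie.Sz F (2 ^ (1 + 1))) = 29120 := by
    rw [hcard]
    norm_num
  obtain ⟨P, hP⟩ := exists_sylow (m := 1) le_rfl hF
  have H : Good F (theta hF) (2 ^ (1 + 1)) := good hF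
  -- the shape of `b`
  obtain ⟨g, hg⟩ := exists_fix (ofGood (good hF)) P hP b
  obtain ⟨σ, k, hσ⟩ := eq_of_fix (by rw [Nat.card_eq_fintype_card, hF8]) (good hF) hg
  obtain ⟨c, hc⟩ : ∃ c, c = g⁻¹ * (good hF).d k := ⟨_, rfl⟩
  have hbc : b = MulAut.conj c * fieldAut (good hF) σ := by
    rw [hc, map_mul, mul_assoc, ← hσ, map_inv, inv_mul_cancel_left]
  -- the trace of `a`
  have htr : σ (tz a) = tz a := by
    have h1 : tz (b a) = tz a := by rw [hab]
    rw [hbc, MulAut.mul_apply, MulAut.conj_apply, tz_conj] at h1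
    have h2 : tz (fieldAut (good hF) σ a) = σ (tz a) := by
      unfold tz
      rw [Matrix.trace, Matrix.trace, map_sum]
      rfl
    rwa [h2] at h1
  -- the torus
  let D : Subgroup ↥(Cfsg.Lie.Sz F (2 ^ (1 + 1))) :=
    { carrier := {y | ∃ k : Fˣ, y = (good hF).d k}
      mul_mem' := by
        rintro _ _ ⟨k, rfl⟩ ⟨l, rfl⟩
        exact ⟨k * l, (good hF).d_mul k l⟩
      one_mem' := ⟨1, ((ofGood (good hF)).d_one).symm⟩
      inv_mem' := by
        rintro _ ⟨k, rfl⟩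
        exact ⟨k⁻¹, (ofGood (good hF)).d_inv k⟩ }
  have hD : Nat.card D = 7 := by
    have h1 : Nat.card D = Nat.card Fˣ := by
      refine (Nat.card_congr (Equiv.ofBijective (fun k : Fˣ => (⟨(good hF).d k, k, rfl⟩ : D)) ⟨?_, ?_⟩)).symm
      · intro k l h
        exact (good hF).d_inj (congrArg Subtype.val h)
      · rintro ⟨_, k, rfl⟩
        exact ⟨k, rfl⟩
    rw [h1, Nat.card_units, Nat.card_eq_fintype_card, hF8]
  obtain ⟨y, l, hl⟩ := exists_conj_mem (by norm_num) (by rw [hcard']; norm_num) hD ha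
  have htl : tz a = tz ((good hF).d l) := by rw [← hl, tz_conj]
  have hl1 : (l : F) ≠ 1 := by
    intro h
    have h1 : l = 1 := Units.ext h
    have h2 : (good hF).d (1 : Fˣ) = 1 := (ofGood (good hF)).d_one
    rw [h1, h2] at hl
    have h3 : a = 1 := by
      have h4 := congrArg (fun z => y⁻¹ * z * y) hl
      simpa [mul_assoc] using h4
    rw [h3, orderOf_one] at ha
    norm_num at ha
  have hp : ∀ c : F, c ^ 8 = c := fun c => by
    rw [← hF8]
    exact FiniteField.pow_card c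
  have hl0 : (l : F) ≠ 0 := l.ne_zero
  have hl7 : (l : F) ^ 7 = 1 := by
    have h1 := hp l
    have h2 : (l : F) * ((l : F) ^ 7 - 1) = 0 := by linear_combination h1
    have h3 := (mul_eq_zero.1 h2).resolve_left hl0
    linear_combination h3
  obtain ⟨z, hz⟩ : ∃ z : F, z = (l : F) := ⟨_, rfl⟩
  rw [← hz] at hl1 hl0 hl7
  have htz : tz ((good hF).d l) = z + z ^ 3 + z ^ 4 + z ^ 6 := by
    have hth : theta hF (l : F) = z ^ 4 := by
      rw [← (good hF).pow, hz]
      norm_num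
    have hinv : z⁻¹ = z ^ 6 := by
      apply inv_eq_of_mul_eq_one_right
      linear_combination hl7
    have hinv4 : (z ^ 4)⁻¹ = z ^ 3 := by
      apply inv_eq_of_mul_eq_one_right
      linear_combination hl7
    change (Dmat (theta hF) l).trace = _
    rw [Dmat_def, Matrix.trace, Fin.sum_univ_four]
    simp only [Matrix.diag_apply]
    change (l : F) + theta hF l * (l : F)⁻¹ + (l : F) * (theta hF l)⁻¹ + (l : F)⁻¹ = _
    rw [hth, ← hz, hinv, hinv4]
    linear_combination (z ^ 3) * hl7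
  have h20 : (2 : F) = 0 := CharTwo.two_eq_zero
  obtain ⟨τ, hτ⟩ : ∃ τ, τ = tz a := ⟨_, rfl⟩
  rw [← hτ] at htr
  rw [htz, ← hτ] at htl
  have key : τ ^ 2 = τ → False := by
    intro h
    rw [htl] at h
    have h1 : z ^ 2 * (z + 1) ^ 3 = 0 := by
      linear_combination h - (z ^ 5 + z) * hl7 +
        (-(z ^ 4 + z ^ 5 + 2 * z ^ 7 + z ^ 9 + z ^ 10) + 2 * (z ^ 4 + z ^ 3)) * h20
    have h2 := (mul_eq_zero.1 h1).resolve_left (pow_ne_zero _ hl0)
    have h3 := pow_eq_zero_iff (by norm_num) |>.1 h2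
    apply hl1
    linear_combination h3 - h20
  obtain ⟨i, hi⟩ := exists_frob (p := 2) σ
  have hp3 : ∀ (k : ℕ) (c : F), c ^ 8 ^ k = c := by
    intro k c
    induction k with
    | zero => rw [pow_zero, pow_one]
    | succ k ih => rw [pow_succ, pow_mul, ih, hp]
  have hmod : ∀ c : F, σ c = c ^ 2 ^ (i % 3) := by
    intro c
    rw [hi]
    conv_lhs => rw [← Nat.div_add_mod i 3, pow_add, pow_mul, pow_mul, show 2 ^ 3 = 8 by norm_num, hp3]
  have h3 : i % 3 < 3 := Nat.mod_lt _ (by norm_num)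
  have h4 : i % 3 = 0 ∨ i % 3 = 1 ∨ i % 3 = 2 := by omega
  rcases h4 with h4 | h4 | h4
  · have hσ1 : σ = 1 := by
      apply RingEquiv.ext
      intro c
      rw [hmod, h4, pow_zero, pow_one]
      rfl
    rw [hσ1, map_one, mul_one] at hbc
    have h5 : b ^ 29120 = 1 := by
      rw [hbc, ← map_pow, ← hcard', pow_card_eq_one', map_one]
    have h6 := orderOf_dvd_of_pow_eq_one h5
    rw [hb] at h6
    norm_num at h6
  · apply key
    have h5 := hmod τ
    rw [htr, h4, pow_one] at h5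
    exact h5.symm
  · apply key
    have h5 := hmod τ
    rw [htr, h4] at h5
    norm_num at h5
    have h6 := hp τ
    calc τ ^ 2 = (τ ^ 4) ^ 2 := by rw [← h5]
      _ = τ ^ 8 := by ring
      _ = τ := h6

end Cfsg.Agent.H729.SprO8
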